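import Mathlib

set_option autoImplicit false

namespace Cfsg.Agent.Lib.Lead.ReeCube

/-- [C-ARITH] -/
theorem range_orderOf_prod {G H : Type*} [Group G] [Group H] (m1 m2 m3 m4 m5 m6 : ℕ)
    (hG : ∀ d, (∃ g : G, orderOf g = d) ↔ (d ∣ m1 ∨ d ∣ m2 ∨ d ∣ m3 ∨ d ∣ m4 ∨ d ∣ m5 ∨ d ∣ m6))
    (hH : ∀ d, (∃ h : H, orderOf h = d) ↔ (d ∣ m1 ∨ d ∣ m2 ∨ d ∣ m3 ∨ d ∣ m4)) :
    Set.range (orderOf : G × G × H → ℕ) = Set.range (orderOf : G × G × G → ℕ) := by
  have oG : ∀ a b c : G, orderOf ((a, b, c) : G × G × G) =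
      Nat.lcm (orderOf a) (Nat.lcm (orderOf b) (orderOf c)) := by
    intro a b c
    rw [Prod.orderOf, Prod.orderOf]
  have oH : ∀ (a b : G) (c : H), orderOf ((a, b, c) : G × G × H) =
      Nat.lcm (orderOf a) (Nat.lcm (orderOf b) (orderOf c)) := by
    intro a b c
    rw [Prod.orderOf, Prod.orderOf]
  apply Set.eq_of_subset_of_subset
  · rintro _ ⟨⟨a, b, h⟩, rfl⟩
    obtain ⟨c, hc⟩ : ∃ c : G, orderOf c = orderOf h := by
      rw [hG]
      rcases (hH (orderOf h)).1 ⟨h, rfl⟩ with h1 | h1 | h1 | h1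
      · exact Or.inl h1
      · exact Or.inr (Or.inl h1)
      · exact Or.inr (Or.inr (Or.inl h1))
      · exact Or.inr (Or.inr (Or.inr (Or.inl h1)))
    exact ⟨(a, b, c), by simp only [oG, oH, hc]⟩
  · rintro _ ⟨⟨a, b, c⟩, rfl⟩
    -- small or large
    have cls : ∀ g : G, (∃ h : H, orderOf h = orderOf g) ∨ orderOf g ∣ m5 ∨ orderOf g ∣ m6 := by
      intro g
      rcases (hG (orderOf g)).1 ⟨g, rfl⟩ with h1 | h1 | h1 | h1 | h1 | h1
      · exact Or.inl ((hH _).2 (Or.inl h1))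
      · exact Or.inl ((hH _).2 (Or.inr (Or.inl h1)))
      · exact Or.inl ((hH _).2 (Or.inr (Or.inr (Or.inl h1))))
      · exact Or.inl ((hH _).2 (Or.inr (Or.inr (Or.inr h1))))
      · exact Or.inr (Or.inl h1)
      · exact Or.inr (Or.inr h1)
    have mrg : ∀ x y : G, (orderOf x ∣ m5 ∧ orderOf y ∣ m5) ∨ (orderOf x ∣ m6 ∧ orderOf y ∣ m6) →
        ∃ g : G, orderOf g = Nat.lcm (orderOf x) (orderOf y) := by
      intro x y h
      rw [hG]
      rcases h with ⟨h1, h2⟩ | ⟨h1, h2⟩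
      · exact Or.inr (Or.inr (Or.inr (Or.inr (Or.inl (Nat.lcm_dvd h1 h2)))))
      · exact Or.inr (Or.inr (Or.inr (Or.inr (Or.inr (Nat.lcm_dvd h1 h2)))))
    -- the three ways of using a small one
    have useC : (∃ h : H, orderOf h = orderOf c) →
        orderOf ((a, b, c) : G × G × G) ∈ Set.range (orderOf : G × G × H → ℕ) := by
      rintro ⟨h, hh⟩
      exact ⟨(a, b, h), by simp only [oG, oH, hh]⟩
    have useB : (∃ h : H, orderOf h = orderOf b) →
        orderOf ((a, b, c) : G × G × G) ∈ Set.range (orderOf : G × G × H → ℕ) := by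
      rintro ⟨h, hh⟩
      exact ⟨(a, c, h), by simp only [oG, oH, hh]; ac_rfl⟩
    have useA : (∃ h : H, orderOf h = orderOf a) →
        orderOf ((a, b, c) : G × G × G) ∈ Set.range (orderOf : G × G × H → ℕ) := by
      rintro ⟨h, hh⟩
      exact ⟨(b, c, h), by simp only [oG, oH, hh]; ac_rfl⟩
    have useAB : (∃ g : G, orderOf g = Nat.lcm (orderOf a) (orderOf b)) →
        orderOf ((a, b, c) : G × G × G) ∈ Set.range (orderOf : G × G × H → ℕ) := by
      rintro ⟨g, hg⟩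
      exact ⟨(g, c, 1), by simp only [oG, oH, hg, orderOf_one, Nat.lcm_one_right]; ac_rfl⟩
    have useAC : (∃ g : G, orderOf g = Nat.lcm (orderOf a) (orderOf c)) →
        orderOf ((a, b, c) : G × G × G) ∈ Set.range (orderOf : G × G × H → ℕ) := by
      rintro ⟨g, hg⟩
      exact ⟨(g, b, 1), by simp only [oG, oH, hg, orderOf_one, Nat.lcm_one_right]; ac_rfl⟩
    have useBC : (∃ g : G, orderOf g = Nat.lcm (orderOf b) (orderOf c)) →
        orderOf ((a, b, c) : G × G × G) ∈ Set.range (orderOf : G × G × H → ℕ) := by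
      rintro ⟨g, hg⟩
      exact ⟨(g, a, 1), by simp only [oG, oH, hg, orderOf_one, Nat.lcm_one_right]; ac_rfl⟩
    rcases cls a with ha | ha
    · exact useA ha
    rcases cls b with hb | hb
    · exact useB hb
    rcases cls c with hc | hc
    · exact useC hc
    rcases ha with ha | ha <;> rcases hb with hb | hb <;> rcases hc with hc | hc
    · exact useAB (mrg a b (Or.inl ⟨ha, hb⟩))
    · exact useAB (mrg a b (Or.inl ⟨ha, hb⟩))
    · exact useAC (mrg a c (Or.inl ⟨ha, hc⟩))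
    · exact useBC (mrg b c (Or.inr ⟨hb, hc⟩))
    · exact useBC (mrg b c (Or.inl ⟨hb, hc⟩))
    · exact useAC (mrg a c (Or.inr ⟨ha, hc⟩))
    · exact useAB (mrg a b (Or.inr ⟨ha, hb⟩))
    · exact useAB (mrg a b (Or.inr ⟨ha, hb⟩))

/-- [C-TYPE] -/
theorem exists_type_zero (Y : Type*) [Group Y] [Finite Y] :
    ∃ (H : Type) (_ : Group H) (_ : Fintype H), Fintype.card H = Nat.card Y ∧
      Set.range (orderOf : H → ℕ) = Set.range (orderOf : Y → ℕ) := by
  let E : Shrink.{0} Y ≃* Y := Shrink.mulEquiv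
  have : Finite (Shrink.{0} Y) := Finite.of_equiv Y E.symm.toEquiv
  refine ⟨Shrink.{0} Y, inferInstance, Fintype.ofFinite _, ?_, ?_⟩
  · rw [Fintype.card_eq_nat_card]
    exact Nat.card_congr E.toEquiv
  · ext d
    constructor
    · rintro ⟨h, rfl⟩
      exact ⟨E h, E.orderOf_eq h⟩
    · rintro ⟨y, rfl⟩
      exact ⟨E.symm y, by rw [← E.orderOf_eq, E.apply_symm_apply]⟩

end Cfsg.Agent.Lib.Lead.ReeCube
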